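import Mathlib.RingTheory.PrincipalIdealDomain
import Mathlib.LinearAlgebra.Basis.Defs
import Mathlib.LinearAlgebra.Dimension.Finrank
import Mathlib.LinearAlgebra.Dimension.Constructions
import Mathlib.RingTheory.IntegralClosure.IntegrallyClosed
import Mathlib.RingTheory.Localization.FractionRing
import Mathlib.RingTheory.Ideal.GoingUp
import Groth.Agent.H34.SplitP1.Birkhoff

/-!
The algebra of a double cover of the projective line: two rank two algebras over `k[X]` glued
over `k[t, t⁻¹]`.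
-/

universe u
set_option autoImplicit false

open Polynomial Groth.Agent.H34.SplitP1

namespace Groth.Agent.H34.HyperEll

/-- `1` is part of a basis of a rank two algebra over a principal ideal domain. -/
theorem exists_one_basis {R A : Type u} [CommRing R] [IsDomain R] [IsPrincipalIdealRing R]
    [CommRing A] [Algebra R A] [Algebra.IsIntegral R A] [FaithfulSMul R A]
    (b : Module.Basis (Fin 2) R A) :
    ∃ y : A, Function.Bijective fun p : R × R => algebraMap R A p.1 + algebraMap R A p.2 * y := by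
  let p := b.repr 1 0
  let q := b.repr 1 1
  have h1 : (1 : A) = p • b 0 + q • b 1 := by
    rw [← Fin.sum_univ_two fun i => b.repr 1 i • b i, b.sum_repr]
  let π := Submodule.IsPrincipal.generator (Ideal.span {p, q})
  have hπ : IsUnit π := by
    obtain ⟨p', hp'⟩ : π ∣ p := (Submodule.IsPrincipal.mem_iff_generator_dvd _).1
      (Ideal.subset_span (Set.mem_insert p _))
    obtain ⟨q', hq'⟩ : π ∣ q := (Submodule.IsPrincipal.mem_iff_generator_dvd _).1
      (Ideal.subset_span (Set.mem_insert_of_mem p rfl))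
    have hu : IsUnit (algebraMap R A π) := IsUnit.of_mul_eq_one (p' • b 0 + q' • b 1) (by
      rw [h1, hp', hq', ← Algebra.smul_def, smul_add, smul_smul, smul_smul])
    have : IsLocalHom (algebraMap R A) :=
      (algebraMap_isIntegral_iff.2 inferInstance : (algebraMap R A).IsIntegral).isLocalHom
        (FaithfulSMul.algebraMap_injective R A)
    exact hu.of_map (algebraMap R A) π
  have htop : Ideal.span {p, q} = ⊤ := by
    rw [← Ideal.span_singleton_generator (Ideal.span {p, q})]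
    exact Ideal.span_singleton_eq_top.2 hπ
  obtain ⟨a, c, hac⟩ := Ideal.mem_span_pair.1 ((Ideal.eq_top_iff_one _).1 htop)
  have key : ∀ x y : R, algebraMap R A x + algebraMap R A y * (a • b 1 - c • b 0) =
      (x * p - y * c) • b 0 + (x * q + y * a) • b 1 := fun x y => by
    rw [← mul_one (algebraMap R A x), h1, ← Algebra.smul_def, ← Algebra.smul_def]
    module
  refine ⟨a • b 1 - c • b 0, fun v w hvw => ?_, fun z => ?_⟩
  · obtain ⟨x, y⟩ := v
    obtain ⟨x', y'⟩ := w
    simp only [key] at hvw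
    have hli := Fintype.linearIndependent_iff.1 b.linearIndependent
      ![(x - x') * p - (y - y') * c, (x - x') * q + (y - y') * a] (by
        rw [Fin.sum_univ_two, Matrix.cons_val_zero, Matrix.cons_val_one, Matrix.cons_val_fin_one,
          ← sub_eq_zero.2 hvw]
        module)
    have e0 : (x - x') * p - (y - y') * c = 0 := hli 0
    have e1 : (x - x') * q + (y - y') * a = 0 := hli 1
    ext
    · exact sub_eq_zero.1 (by linear_combination a * e0 + c * e1 - (x - x') * hac)
    · exact sub_eq_zero.1 (by linear_combination p * e1 - q * e0 - (y - y') * hac)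
  · refine ⟨(b.repr z 0 * a + b.repr z 1 * c, b.repr z 1 * p - b.repr z 0 * q), ?_⟩
    simp only [key]
    conv_rhs => rw [← b.sum_repr z, Fin.sum_univ_two]
    rw [show (b.repr z 0 * a + b.repr z 1 * c) * p - (b.repr z 1 * p - b.repr z 0 * q) * c =
        b.repr z 0 by linear_combination (b.repr z 0) * hac,
      show (b.repr z 0 * a + b.repr z 1 * c) * q + (b.repr z 1 * p - b.repr z 0 * q) * a =
        b.repr z 1 by linear_combination (b.repr z 1) * hac]

section

variable {k : Type u} [Field k] {L B A0 A1 : Type u} [CommRing L] [CommRing B]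
  [CommRing A0] [CommRing A1] [Algebra k[X] A0] [Algebra k[X] A1]

/-- Two algebras over `k[X]` glued over `k[t, t⁻¹]`. -/
structure Glue (D : Data k L) (ι : L →+* B) (r0 : A0 →+* B) (r1 : A1 →+* B) : Prop where
  comp0 : ∀ p, r0 (algebraMap k[X] A0 p) = ι (D.φ0 p)
  comp1 : ∀ p, r1 (algebraMap k[X] A1 p) = ι (D.φ1 p)
  inj0 : Function.Injective r0
  inj1 : Function.Injective r1
  surj0 : ∀ b, ∃ (n : ℕ) (a : A0), b * ι (D.u : L) ^ n = r0 a
  surj1 : ∀ b, ∃ (n : ℕ) (a : A1), b * ι ((D.u⁻¹ : Lˣ) : L) ^ n = r1 a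

variable {D : Data k L} {ι : L →+* B} {r0 : A0 →+* B} {r1 : A1 →+* B} (G : Glue D ι r0 r1)

/-- Induction on monomials of `k[t, t⁻¹]`. -/
theorem induction_monomial (D : Data k L) {P : L → Prop} (h0 : P 0)
    (hadd : ∀ a b, P a → P b → P (a + b)) (hmon : ∀ c j, P (D.φ0 (C c) * D.up j)) (l : L) : P l := by
  obtain ⟨n, p, hp⟩ := D.surj l
  have hl : l = D.φ0 p * D.up (-n) := by
    rw [← hp, ← D.up_natCast, mul_assoc, ← D.up_add, add_neg_cancel, D.up_zero, mul_one]
  subst hl
  clear hp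
  induction p using Polynomial.induction_on' with
  | add a b ha hb => rw [map_add, add_mul]; exact hadd _ _ ha hb
  | monomial i c =>
    rw [← C_mul_X_pow_eq_monomial, map_mul, D.φ0_X_pow, mul_assoc, ← D.up_add]
    exact hmon c _

/-- `k[t, t⁻¹] = t ^ z k[t] + k[t⁻¹]` for `z ≤ 1`. -/
theorem exists_decomp (D : Data k L) {z : ℤ} (hz : z ≤ 1) (l : L) :
    ∃ p q, l = D.up z * D.φ0 p + D.φ1 q := by
  refine induction_monomial D (P := fun l => ∃ p q, l = D.up z * D.φ0 p + D.φ1 q)
    ⟨0, 0, by simp⟩ ?_ (fun c j => ?_) l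
  · rintro _ _ ⟨p, q, rfl⟩ ⟨p', q', rfl⟩
    exact ⟨p + p', q + q', by rw [map_add, map_add]; ring⟩
  · by_cases hj : z ≤ j
    · refine ⟨C c * X ^ (j - z).toNat, 0, ?_⟩
      rw [map_zero, add_zero, map_mul, D.φ0_X_pow, mul_left_comm, ← D.up_add]
      congr 2
      omega
    · refine ⟨0, C c * X ^ (-j).toNat, ?_⟩
      rw [map_zero, mul_zero, zero_add, map_mul, D.C_eq, D.φ1_X_pow]
      congr 2
      omega

/-- Coordinates over `k[t, t⁻¹]`. -/
def IsCoord (ι : L →+* B) (Y : B) : Prop :=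
  Function.Bijective fun v : L × L => ι v.1 + ι v.2 * Y

theorem IsCoord.inj {Y : B} (hY : IsCoord ι Y) {a b a' b' : L}
    (h : ι a + ι b * Y = ι a' + ι b' * Y) : a = a' ∧ b = b' :=
  Prod.mk.inj (hY.1 (a₁ := (a, b)) (a₂ := (a', b')) h)

include G in
theorem isCoord {y : A0} (hy : Function.Bijective fun p : k[X] × k[X] =>
    algebraMap k[X] A0 p.1 + algebraMap k[X] A0 p.2 * y) : IsCoord ι (r0 y) := by
  have hu : ∀ n : ℕ, IsUnit (ι (D.up n)) := fun n => (D.isUnit_up n).map ι
  constructor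
  · rintro ⟨a, b⟩ ⟨a', b'⟩ h
    simp only at h
    obtain ⟨n, p, hp⟩ := D.surj (a - a')
    obtain ⟨m, q, hq⟩ := D.surj (b - b')
    have h2 : r0 (algebraMap k[X] A0 (p * X ^ m) + algebraMap k[X] A0 (q * X ^ n) * y) = 0 := by
      rw [map_add, map_mul r0, G.comp0, G.comp0, map_mul D.φ0, map_mul D.φ0, ← hp, ← hq,
        map_pow D.φ0, map_pow D.φ0, D.X0]
      simp only [map_mul, map_sub, map_pow]
      linear_combination (ι (D.u : L) ^ n * ι (D.u : L) ^ m) * h
    rw [← map_zero r0] at h2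
    have h3 := @hy.1 (p * X ^ m, q * X ^ n) (0, 0) (by simpa using G.inj0 h2)
    simp only [Prod.mk.injEq, mul_eq_zero, pow_eq_zero_iff', X_ne_zero, false_and, or_false] at h3
    rw [h3.1, map_zero] at hp
    rw [h3.2, map_zero] at hq
    rw [Prod.mk.injEq, ← sub_eq_zero, ← sub_eq_zero (a := b)]
    refine ⟨(D.isUnit_up (n : ℤ)).mul_left_eq_zero.1 ?_, (D.isUnit_up (m : ℤ)).mul_left_eq_zero.1 ?_⟩
    · rw [D.up_natCast]; exact hp
    · rw [D.up_natCast]; exact hq
  · intro b
    obtain ⟨n, a, ha⟩ := G.surj0 b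
    obtain ⟨⟨p, q⟩, rfl⟩ := hy.2 a
    refine ⟨(D.φ0 p * D.up (-n), D.φ0 q * D.up (-n)), (hu n).mul_right_cancel ?_⟩
    rw [show b * ι (D.up n) = b * ι (D.u : L) ^ n by rw [D.up_natCast, map_pow], ha, map_add,
      map_mul r0, G.comp0, G.comp0]
    simp only [add_mul, map_mul, mul_assoc, mul_comm (r0 y)]
    rw [← map_mul ι (D.up _) (D.up _), ← mul_assoc (ι (D.up (-n))), ← map_mul ι (D.up _) (D.up _),
      ← D.up_add, neg_add_cancel, D.up_zero, map_one, mul_one, one_mul]

include G in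
theorem symm : Glue D.symm ι r1 r0 :=
  ⟨G.comp1, G.comp0, G.inj1, G.inj0, G.surj1,
    fun b => by
      obtain ⟨n, a, h⟩ := G.surj0 b
      exact ⟨n, a, by rw [show (D.symm.u)⁻¹ = D.u from inv_inv _]; exact h⟩⟩

variable {y0 : A0} {y1 : A1}
  (hy0 : Function.Bijective fun p : k[X] × k[X] =>
    algebraMap k[X] A0 p.1 + algebraMap k[X] A0 p.2 * y0)
  (hy1 : Function.Bijective fun p : k[X] × k[X] =>
    algebraMap k[X] A1 p.1 + algebraMap k[X] A1 p.2 * y1)

include G hy0 hy1 in
/-- The transition between the two bases is triangular. -/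
theorem exists_transition : ∃ (c : k) (e : ℤ) (g : L), c ≠ 0 ∧
    r1 y1 = ι g + ι (D.φ0 (C c) * D.up (-e)) * r0 y0 := by
  have h0 := isCoord G hy0
  have h1 : IsCoord ι (r1 y1) := isCoord (symm G) hy1
  obtain ⟨⟨g, h⟩, hgh⟩ := h0.2 (r1 y1)
  obtain ⟨⟨g', h'⟩, hgh'⟩ := h1.2 (r0 y0)
  simp only at hgh hgh'
  have := h0.inj (a := g' + h' * g) (b := h' * h) (a' := 0) (b' := 1) (by
    rw [map_add, map_mul, map_mul, map_zero, map_one, zero_add, one_mul]
    linear_combination hgh' + ι h' * hgh)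
  obtain ⟨c, m, hc, hcm⟩ := D.exists_of_isUnit (IsUnit.of_mul_eq_one_right _ this.2)
  exact ⟨c, -m, g, hc, by rw [neg_neg, ← hcm]; exact hgh.symm⟩

variable {e : ℤ} {g : L} (hY : r1 y1 = ι g + ι (D.up (-e)) * r0 y0)

include G hy0 hy1 hY in
/-- The cokernel of `A0 ⊕ A1 → B` has dimension `e - 1`. -/
theorem finrank_coker [Module k B] (hk : ∀ (c : k) (b : B), c • b = ι (D.φ0 (C c)) * b)
    (R : Submodule k B) (hR : ∀ b, b ∈ R ↔ ∃ a0 a1, b = r0 a0 + r1 a1) :
    Module.finrank k (B ⧸ R) = (e - 1).toNat := by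
  classical
  have h0 := isCoord G hy0
  have hL : ∀ l : L, ι l ∈ R := fun l => by
    obtain ⟨p, q, rfl⟩ := exists_decomp D (z := 0) zero_le_one l
    refine (hR _).2 ⟨algebraMap k[X] A0 p, algebraMap k[X] A1 q, ?_⟩
    rw [G.comp0, G.comp1, D.up_zero, one_mul, map_add]
  let mon : ℤ → B := fun j => ι (D.up j) * r0 y0
  let N := (e - 1).toNat
  let f : (Fin N → k) →ₗ[k] B ⧸ R :=
    R.mkQ.comp (Fintype.linearCombination k fun j : Fin N => mon (-((j : ℕ) + 1 : ℤ)))
  have hmem : ∀ (c : k) (j : ℤ), (0 ≤ j ∨ j ≤ -e) →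
      ι (D.φ0 (C c) * D.up j) * r0 y0 ∈ R := by
    rintro c j (hj | hj)
    · refine (hR _).2 ⟨algebraMap k[X] A0 (C c * X ^ j.toNat) * y0, 0, ?_⟩
      rw [map_zero, add_zero, map_mul r0, G.comp0, map_mul D.φ0, D.φ0_X_pow, Int.toNat_of_nonneg hj]
    · have hq : D.φ0 (C c) * D.up (j + e) = D.φ1 (C c * X ^ (-(j + e)).toNat) := by
        rw [map_mul, D.C_eq, D.φ1_X_pow, Int.toNat_of_nonneg (by omega), neg_neg]
      have : ι (D.φ0 (C c) * D.up j) * r0 y0 =
          r1 (algebraMap k[X] A1 (C c * X ^ (-(j + e)).toNat) * y1) -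
            ι (D.φ0 (C c) * D.up (j + e) * g) := by
        rw [map_mul r1, G.comp1, hY, ← hq,
          show D.φ0 (C c) * D.up j = D.φ0 (C c) * D.up (j + e) * D.up (-e) by
            rw [mul_assoc, ← D.up_add, add_neg_cancel_right]]
        simp only [map_mul]
        ring
      rw [this]
      exact Submodule.sub_mem _ ((hR _).2 ⟨0, _, by rw [map_zero, zero_add]⟩) (hL _)
  have hsurj : Function.Surjective f := by
    intro z
    obtain ⟨b, rfl⟩ := R.mkQ_surjective z
    obtain ⟨⟨l, m⟩, rfl⟩ := h0.2 b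
    simp only [map_add]
    have hl0 : R.mkQ (ι l) = 0 := (Submodule.Quotient.mk_eq_zero R).2 (hL l)
    rw [hl0, zero_add]
    refine LinearMap.mem_range.1 (induction_monomial D (P := fun m => R.mkQ (ι m * r0 y0) ∈
      LinearMap.range f) ?_ ?_ (fun c j => ?_) m)
    · simp
    · intro a b ha hb
      rw [map_add, add_mul, map_add]
      exact add_mem ha hb
    · by_cases hj : 0 ≤ j ∨ j ≤ -e
      · rw [show R.mkQ (ι (D.φ0 (C c) * D.up j) * r0 y0) = 0 from
          (Submodule.Quotient.mk_eq_zero R).2 (hmem c j hj)]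
        exact zero_mem _
      · push Not at hj
        refine ⟨Pi.single ⟨(-j - 1).toNat, by omega⟩ c, ?_⟩
        simp only [f, LinearMap.comp_apply, Fintype.linearCombination_apply_single]
        congr 1
        rw [hk, map_mul, mul_assoc]
        congr 2
        congr 3
        omega
  have hinj : Function.Injective f := by
    refine (injective_iff_map_eq_zero f).2 fun c hc => ?_
    rcases Nat.eq_zero_or_pos N with hN | hN
    · funext j; exact absurd j.isLt (by omega)
    have hc' : (Fintype.linearCombination k fun j : Fin N => mon (-((j : ℕ) + 1 : ℤ))) c ∈ R :=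
      (Submodule.Quotient.mk_eq_zero R).1 hc
    obtain ⟨a0, a1, h⟩ := (hR _).1 hc'
    obtain ⟨⟨p, q⟩, rfl⟩ := hy0.2 a0
    obtain ⟨⟨p', q'⟩, rfl⟩ := hy1.2 a1
    rw [Fintype.linearCombination_apply] at h
    simp only [hk, mon, map_add r0, map_add r1, map_mul r0, map_mul r1, G.comp0, G.comp1, hY,
      ← mul_assoc, ← map_mul ι, ← Finset.sum_mul, ← map_sum] at h
    have h2 := (h0.inj (a := 0) (b := ∑ j : Fin N, D.φ0 (C (c j)) * D.up (-((j : ℕ) + 1 : ℤ)))
      (a' := D.φ0 p + D.φ1 p' + D.φ1 q' * g) (b' := D.φ0 q + D.φ1 q' * D.up (-e)) (by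
        rw [map_zero, zero_add, h]
        simp only [map_add, map_mul]
        ring)).2
    let S : k[X] := ∑ j : Fin N, C (c j) * X ^ (N - 1 - (j : ℕ))
    have hS : D.φ0 (X * S) = D.up e * ∑ j : Fin N, D.φ0 (C (c j)) * D.up (-((j : ℕ) + 1 : ℤ)) := by
      rw [map_mul, map_sum, D.X0, Finset.mul_sum, Finset.mul_sum]
      refine Finset.sum_congr rfl fun j _ => ?_
      rw [map_mul, D.φ0_X_pow, ← pow_one (D.u : L), ← D.up_natCast]
      rw [mul_left_comm, ← D.up_add, mul_left_comm, ← D.up_add]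
      congr 2
      have := j.isLt
      omega
    have h3 : D.φ0 (X * S - q * X ^ e.toNat) = D.φ1 q' := by
      rw [map_sub, hS, h2, map_mul, D.φ0_X_pow, Int.toNat_of_nonneg (by omega), mul_add,
        mul_comm (D.up e) (D.φ1 q' * D.up (-e)), mul_assoc (D.φ1 q'), ← D.up_add, neg_add_cancel,
        D.up_zero, mul_one]
      ring
    set T := X * S - q * X ^ e.toNat with hT
    have hT0 : T.coeff 0 = 0 := by
      simp only [hT, coeff_sub, coeff_X_mul_zero, coeff_mul_X_pow', zero_sub, neg_eq_zero]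
      rw [if_neg (show ¬ e.toNat ≤ 0 by omega)]
    obtain ⟨T', hT'⟩ : X ∣ T := X_dvd_iff.2 hT0
    have hq'0 : q' = 0 := D.eq_zero_of_pos (q := T') (n := 1) one_pos (by
      rw [← h3, hT', map_mul, D.X0]; simp [Data.up])
    have hTz : T = 0 := D.inj0 (by rw [h3, hq'0, map_zero, map_zero])
    have hdeg : S.natDegree ≤ N - 1 := natDegree_sum_le_of_forall_le _ _ fun j _ =>
      (natDegree_C_mul_X_pow_le _ _).trans (by omega)
    have hS0 : S = 0 := by
      by_contra hS0
      have h4 := congrArg natDegree (sub_eq_zero.1 (hT ▸ hTz) : X * S = q * X ^ e.toNat)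
      rw [natDegree_X_mul hS0] at h4
      rcases eq_or_ne q 0 with rfl | hq
      · rw [zero_mul, natDegree_zero] at h4; omega
      · rw [natDegree_mul hq (pow_ne_zero _ X_ne_zero), natDegree_X_pow] at h4; omega
    funext j
    have h5 := congrArg (fun P : k[X] => P.coeff (N - 1 - (j : ℕ))) hS0
    simp only [S, finsetSum_coeff, coeff_C_mul_X_pow, coeff_zero] at h5
    rw [Finset.sum_eq_single j (fun l _ hl => if_neg fun h => hl (Fin.ext (by omega))) (by simp),
      if_pos rfl] at h5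
    exact h5
  rw [← LinearEquiv.finrank_eq (LinearEquiv.ofBijective f ⟨hinj, hsurj⟩), Module.finrank_fin_fun]

theorem natDegree_le_of_eq {a b : k[X]} {n : ℕ} (h : D.φ1 a = D.up (-n) * D.φ0 b) :
    b.natDegree ≤ n := by
  let N := max b.natDegree n
  have h1 : reflect N b = a * X ^ (N - n) := D.inj1 (by
    rw [map_mul, h, ← D.φ1_reflect b (m := N) (le_max_left _ _), D.φ1_X_pow,
      mul_comm (D.φ1 (reflect N b)), ← mul_assoc, ← D.up_add, mul_right_comm, ← D.up_add]
    rw [show -(n : ℤ) + N + -((N - n : ℕ) : ℤ) = 0 by omega, D.up_zero, one_mul])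
  refine natDegree_le_iff_coeff_eq_zero.2 fun i hi => ?_
  by_cases hiN : i ≤ N
  · have := congrArg (fun P : k[X] => P.coeff (N - i)) h1
    simp only [coeff_reflect, coeff_mul_X_pow'] at this
    rw [revAt_le (by omega), if_neg (by omega), show N - (N - i) = i by omega] at this
    exact this
  · exact coeff_eq_zero_of_natDegree_lt (by omega)

omit [Algebra k[X] A0] in
theorem dvd_of_sq_relation [IsDomain A1] [IsIntegrallyClosed A1] {x y a b : A1} (hx : x ≠ 0)
    (h : y ^ 2 + a * x * y - b * x ^ 2 = 0) : x ∣ y := by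
  let K := FractionRing A1
  let w : K := algebraMap A1 K y / algebraMap A1 K x
  have hx' : algebraMap A1 K x ≠ 0 := fun h0 =>
    hx ((map_eq_zero_iff _ (IsFractionRing.injective A1 K)).1 h0)
  have hw : IsIntegral A1 w := by
    refine ⟨X ^ 2 + C a * X - C b, by monicity!, ?_⟩
    have h' := congrArg (algebraMap A1 K) h
    simp only [map_add, map_sub, map_mul, map_pow, map_zero] at h'
    rw [eval₂_sub, eval₂_add, eval₂_mul, eval₂_pow, eval₂_X, eval₂_C, eval₂_C]
    refine (mul_left_inj' (pow_ne_zero 2 hx')).1 ?_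
    rw [zero_mul]
    have hwx : w * algebraMap A1 K x = algebraMap A1 K y := div_mul_cancel₀ _ hx'
    linear_combination h' + (w * algebraMap A1 K x + algebraMap A1 K y +
      algebraMap A1 K a * algebraMap A1 K x) * hwx
  obtain ⟨z, hz⟩ := IsIntegrallyClosed.isIntegral_iff.1 hw
  refine ⟨z, IsFractionRing.injective A1 K ?_⟩
  rw [map_mul, hz, mul_comm, div_mul_cancel₀ _ hx']

include G hy0 hy1 in
/-- The equation and its degree bounds. -/
theorem exists_equation [IsDomain A1] [IsIntegrallyClosed A1]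
    (hY : r1 y1 = ι (D.up (-e)) * r0 y0) (he : 2 ≤ e) :
    ∃ p q : k[X],
      y0 ^ 2 + algebraMap k[X] A0 q * y0 - algebraMap k[X] A0 p = 0 ∧
      2 * e - 1 ≤ (max p.natDegree (2 * q.natDegree) : ℤ) ∧
      (max p.natDegree (2 * q.natDegree) : ℤ) ≤ 2 * e := by
  have h0 := isCoord G hy0
  obtain ⟨⟨p, q'⟩, hpq⟩ := hy0.2 (y0 ^ 2)
  obtain ⟨⟨p1, q1⟩, hpq1⟩ := hy1.2 (y1 ^ 2)
  simp only at hpq hpq1
  have hB : r0 y0 ^ 2 = ι (D.φ0 p) + ι (D.φ0 q') * r0 y0 := by
    rw [← map_pow, ← hpq, map_add, map_mul, G.comp0, G.comp0]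
  have hB1 : r1 y1 ^ 2 = ι (D.φ1 p1) + ι (D.φ1 q1) * r1 y1 := by
    rw [← map_pow, ← hpq1, map_add, map_mul, G.comp1, G.comp1]
  have hco := h0.inj (a := D.φ1 p1) (b := D.φ1 q1 * D.up (-e)) (a' := D.up (-e) * D.up (-e) * D.φ0 p)
    (b' := D.up (-e) * D.up (-e) * D.φ0 q') (by
      rw [hY] at hB1
      simp only [map_mul]
      linear_combination -hB1 + ι (D.up (-e)) * ι (D.up (-e)) * hB)
  obtain ⟨n, rfl⟩ : ∃ n : ℕ, e = (n : ℤ) := ⟨e.toNat, by omega⟩
  have hp : D.φ1 p1 = D.up (-((2 * n : ℕ) : ℤ)) * D.φ0 p := by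
    rw [hco.1, ← D.up_add, show -(n : ℤ) + -n = -((2 * n : ℕ) : ℤ) by omega]
  have hq : D.φ1 q1 = D.up (-(n : ℤ)) * D.φ0 q' := (D.isUnit_up (-(n : ℤ))).mul_right_cancel (by
    rw [hco.2]; ring)
  have hpd := natDegree_le_of_eq hp
  have hqd := natDegree_le_of_eq hq
  refine ⟨p, -q', ?_, ?_, ?_⟩
  · rw [← hpq, map_neg]; ring
  · rw [natDegree_neg]
    by_contra hlt
    obtain ⟨m, rfl⟩ : ∃ m, n = m + 1 := ⟨n - 1, by omega⟩
    have hz : X ∣ p1 ∧ X ^ 2 ∣ p1 ∧ X ∣ q1 := by
      have e1 : p1 = reflect (2 * m) p * X ^ 2 := D.inj1 (by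
        rw [hp, map_mul, D.φ1_X_pow, ← D.φ1_reflect p (m := 2 * m) (by omega),
          mul_comm (D.φ1 (reflect _ p)), ← mul_assoc, ← D.up_add, mul_comm]
        congr 2
        omega)
      have e2 : q1 = reflect m q' * X := D.inj1 (by
        rw [hq, ← pow_one X, map_mul, D.φ1_X_pow, ← D.φ1_reflect q' (m := m) (by omega),
          mul_comm (D.φ1 (reflect _ q')), ← mul_assoc, ← D.up_add, mul_comm]
        congr 2
        omega)
      exact ⟨e1 ▸ dvd_mul_of_dvd_right (dvd_pow_self X two_ne_zero) _, e1 ▸ dvd_mul_left _ _,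
        e2 ▸ dvd_mul_left _ _⟩
    obtain ⟨-, ⟨p2, hp2⟩, ⟨q2, hq2⟩⟩ := hz
    let x := algebraMap k[X] A1 X
    have hx : x ≠ 0 := fun h0 => by
      have := @hy1.1 (X, 0) (0, 0) (by simpa using h0)
      exact X_ne_zero (Prod.mk.inj this).1
    have hrel : y1 ^ 2 + -algebraMap k[X] A1 q2 * x * y1 - algebraMap k[X] A1 p2 * x ^ 2 = 0 := by
      rw [← hpq1, hp2, hq2]
      simp only [x, map_mul, map_pow]
      ring
    obtain ⟨z, hz⟩ := dvd_of_sq_relation hx hrel
    obtain ⟨⟨a, b⟩, hab⟩ := hy1.2 z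
    simp only at hab
    have := @hy1.1 (0, 1) (X * a, X * b) (by
      simp only [map_zero, map_one, zero_add, one_mul, map_mul]
      conv_lhs => rw [hz, ← hab]
      ring)
    exact not_isUnit_X (IsUnit.of_mul_eq_one _ (Prod.mk.inj this).2.symm)
  · rw [natDegree_neg]
    omega

end

end Groth.Agent.H34.HyperEll
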