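import Groth.Agent.Lib.Curves.MVModule
import Groth.Agent.Lib.ZarCoh.Affine

/-!
`H¹` of a cover by two affine opens is the cokernel of the difference of restrictions.
-/

set_option autoImplicit false
universe u

open CategoryTheory CategoryTheory.Limits CategoryTheory.Abelian AlgebraicGeometry Opposite
  TopologicalSpace
open Groth.Agent.Lib Groth.Agent.Lib.ZarCoh Groth.Agent.Lib.Cech
open Groth.Agent.Lib.Curves

noncomputable section

namespace Groth.Agent.H34.HyperEll

section Top

variable {T : TopCat.{u}} (G : CohTop.Ab T) {U V : Opens T} (hUV : U ⊔ V = ⊤)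

theorem rs_injective {W : Opens T} (h : (⊤ : Opens T) ≤ W) (n : ℕ) :
    Function.Injective (Basic.rs G n h) := by
  obtain rfl : W = ⊤ := top_le_iff.1 h
  intro a b hab
  rw [Basic.rs_apply, Basic.rs_apply, show homOfLE h = 𝟙 _ from Subsingleton.elim _ _,
    CategoryTheory.Functor.map_id, Ext.mk₀_id_comp, Ext.mk₀_id_comp] at hab
  exact hab

theorem exists_sub_of_connecting_eq_zero (s : G.obj.obj (op (U ⊓ V)))
    (h : MVConnecting.connecting G hUV s = 0) :
    ∃ x y, G.obj.map (homOfLE (inf_le_left : U ⊓ V ≤ U)).op x -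
      G.obj.map (homOfLE (inf_le_right : U ⊓ V ≤ V)).op y = s := by
  rw [MVConnecting.connecting_apply] at h
  have h1 : MV.δ G U V 0 1 rfl (MVConnecting.cls G (U ⊓ V) s) = 0 :=
    rs_injective G hUV.ge 1 (((Compare.hTop G 1).symm.map_eq_zero_iff.1 h).trans (map_zero _).symm)
  obtain ⟨a, b, hab⟩ := MV.exists_sub_eq G U V 0 _ h1
  obtain ⟨a', rfl⟩ := (Ext.mk₀_bijective _ _).2 a
  obtain ⟨b', rfl⟩ := (Ext.mk₀_bijective _ _).2 b
  obtain ⟨x, rfl⟩ := (Basic.homEquiv U G).symm.surjective a'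
  obtain ⟨y, rfl⟩ := (Basic.homEquiv V G).symm.surjective b'
  refine ⟨x, y, ?_⟩
  have hinj : Function.Injective (MVConnecting.cls G (U ⊓ V)) := fun p q hpq =>
    (Basic.homEquiv (U ⊓ V) G).symm.injective ((Ext.mk₀_bijective _ _).1 hpq)
  refine hinj (Eq.trans ?_ hab)
  rw [map_sub, ← MVConnecting.rs_cls, ← MVConnecting.rs_cls]
  rfl

end Top

open MVModule in
/-- `H¹` computed by two affine opens. -/
theorem finrank_H1 {k : Type u} [Field k] {X : Scheme.{u}} [X.Over (Spec (CommRingCat.of k))]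
    (F : X.Modules) [F.IsQuasicoherent] {U V : X.Opens} (hUV : U ⊔ V = ⊤) (hU : IsAffineOpen U)
    (hV : IsAffineOpen V) :
    letI := secModuleOn k F U
    letI := secModuleOn k F V
    letI := secModuleOn k F (U ⊓ V)
    Module.finrank k (Coh.HH X F 1) = Module.finrank k (Γ(F, U ⊓ V) ⧸
      (LinearMap.range (resₗ (k := k) F (inf_le_left : U ⊓ V ≤ U)) ⊔
        LinearMap.range (resₗ (k := k) F (inf_le_right : U ⊓ V ≤ V)))) := by
  letI := secModuleOn k F U
  letI := secModuleOn k F V
  letI := secModuleOn k F (U ⊓ V)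
  have hsurj : Function.Surjective (connectingₗ (k := k) F hUV) :=
    MVConnecting.connecting_surjective (Coh.toAb F) hUV (ZarCoh.Affine.HU_subsingleton F hU 0)
      (ZarCoh.Affine.HU_subsingleton F hV 0)
  have hker : LinearMap.range (resₗ (k := k) F (inf_le_left : U ⊓ V ≤ U)) ⊔
      LinearMap.range (resₗ (k := k) F (inf_le_right : U ⊓ V ≤ V)) =
        LinearMap.ker (connectingₗ (k := k) F hUV) := by
    refine le_antisymm (sup_le (LinearMap.range_le_ker_iff.mpr (LinearMap.ext (connectingₗ_res_left F hUV)))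
      (LinearMap.range_le_ker_iff.mpr (LinearMap.ext (connectingₗ_res_right F hUV)))) fun s hs => ?_
    obtain ⟨x, y, hxy⟩ := exists_sub_of_connecting_eq_zero (Coh.toAb F) hUV s hs
    have key : ∀ (x : Γ(F, U)) (y : Γ(F, V)),
        resₗ (k := k) F (inf_le_left : U ⊓ V ≤ U) x - resₗ (k := k) F (inf_le_right : U ⊓ V ≤ V) y ∈
          LinearMap.range (resₗ (k := k) F (inf_le_left : U ⊓ V ≤ U)) ⊔
            LinearMap.range (resₗ (k := k) F (inf_le_right : U ⊓ V ≤ V)) := fun x y =>
      Submodule.sub_mem _ (Submodule.mem_sup_left ⟨x, rfl⟩) (Submodule.mem_sup_right ⟨y, rfl⟩)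
    exact hxy ▸ key x y
  rw [hker]
  exact ((LinearMap.quotKerEquivOfSurjective _ hsurj).finrank_eq).symm

end Groth.Agent.H34.HyperEll
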