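import Mathlib.AlgebraicGeometry.Morphisms.FlatRank
import Groth.Agent.Lib.RelDiv.Rank
import Groth.Agent.Lib.CurveBundle.SmoothField
import Groth.Agent.Lib.TorsorSch.RatSection
import Groth.Agent.H34.SplitP1.Chart
import Groth.Agent.H34.SplitP1.Basis
import Groth.Agent.H34.HyperEll.Algebra
import Groth.Agent.H34.HyperEll.Cokernel

/-!
A double cover of the projective line as two rank two algebras glued over `k[t, t⁻¹]`.
-/

noncomputable section
set_option autoImplicit false
universe u

open CategoryTheory CategoryTheory.Limits AlgebraicGeometry Opposite TopologicalSpace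
open Groth.Agent.Lib Groth.Agent.Lib.TensorMod.Dual

namespace Groth.Agent.H34.HyperEll

open Groth.Agent.H34.SplitP1 (P1 U U01 φ ψ data φ_bijective φ_C U01_le basicOpen_φ_X_eq_U01)

variable {k : Type u} [Field k]

/-- The constants of the chart are the constants of the projective line. -/
theorem constants_chart (i : Fin 2) :
    CommRingCat.ofHom ((φ k i).comp Polynomial.C) =
      (Scheme.ΓSpecIso (CommRingCat.of k)).inv ≫
        (CohB1.ProjSpace.toSpec 1 k).appLE ⊤ (U k i) le_top := by
  let h := CohB1.ProjSpace.toSpec 1 k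
  have hU : IsAffineOpen (U k i) := ProjSpace.Basic.isAffineOpen_basicOpen_X (R := k) i
  apply Spec.map_injective
  have h1 : hU.fromSpec ≫ h =
      Spec.map ((Scheme.ΓSpecIso (CommRingCat.of k)).inv ≫ h.appLE ⊤ (U k i) le_top) := by
    rw [← IsAffineOpen.SpecMap_appLE_fromSpec h (isAffineOpen_top _) hU le_top,
      IsAffineOpen.fromSpec_top, Scheme.isoSpec_Spec_inv, ← Spec.map_comp]
  rw [← h1, show CommRingCat.ofHom ((φ k i).comp Polynomial.C) =
      CommRingCat.ofHom (ProjSpace.Charts.constHom k i) ≫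
        Proj.awayToSection (CohB1.polyGrading 1 k) (MvPolynomial.X i) from
    CommRingCat.hom_ext (RingHom.ext fun c => φ_C k i c)]
  refine (Spec.map_comp _ _).trans ?_
  rw [← ProjSpace.Basic.awayχ_toSpec k i, ← Category.assoc]
  congr 1
  rw [show hU.fromSpec = hU.isoSpec.inv ≫ (U k i).ι from rfl, Iso.eq_inv_comp]
  change _ = (U k i).ι
  rw [show ProjSpace.Basic.awayχ k i = (Proj.basicOpenIsoSpec (CohB1.polyGrading 1 k)
    (MvPolynomial.X i) (ProjSpace.Charts.X_mem_one i) one_pos).inv ≫ (U k i).ι from rfl,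
    ← Category.assoc (hU.isoSpec.hom), ← Category.assoc,
    show hU.isoSpec.hom ≫ Spec.map (Proj.awayToSection (CohB1.polyGrading 1 k) (MvPolynomial.X i)) =
      (Proj.basicOpenIsoSpec (CohB1.polyGrading 1 k) (MvPolynomial.X i)
        (ProjSpace.Charts.X_mem_one i) one_pos).hom by
      rw [Proj.basicOpenIsoSpec_hom]; rfl]
  exact (congrArg (· ≫ (U k i).ι) (Proj.basicOpenIsoSpec (CohB1.polyGrading 1 k)
    (MvPolynomial.X i) (ProjSpace.Charts.X_mem_one i) one_pos).hom_inv_id).trans
    (Category.id_comp _)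

variable {C : Scheme.{u}} (f : C ⟶ P1 k)

/-- A chart of the cover. -/
abbrev V (a : Fin 2) : C.Opens := f ⁻¹ᵁ U k a

/-- The overlap of the charts of the cover. -/
abbrev V01 : C.Opens := f ⁻¹ᵁ U01 k

/-- `k[X]` acting on a chart of the cover. -/
def chartHom (a : Fin 2) : Polynomial k →+* Γ(C, V f a) := (f.app (U k a)).hom.comp (φ k a)

/-- Restriction to the overlap. -/
def rHom (a : Fin 2) : Γ(C, V f a) →+* Γ(C, V01 f) :=
  (C.presheaf.map (homOfLE (f.preimage_mono (U01_le k a))).op).hom

theorem app_rf {W W' : (P1 k).Opens} (h : W' ≤ W) (x : Γ(P1 k, W)) :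
    f.app W' (rf h x) = rf (f.preimage_mono h) (f.app W x) :=
  ConcreteCategory.congr_hom (f.naturality (homOfLE h).op) x

theorem rHom_chartHom (a : Fin 2) (p : Polynomial k) :
    rHom f a (chartHom f a p) = (f.app (U01 k)).hom (ψ k a p) :=
  (app_rf f (U01_le k a) (φ k a p)).symm

theorem V01_eq_basicOpen (a : Fin 2) : V01 f = C.basicOpen (chartHom f a Polynomial.X) := by
  rw [V01, ← basicOpen_φ_X_eq_U01 k a]
  exact Scheme.preimage_basicOpen f _

variable [IsFinite f] [Flat f]

theorem isAffineOpen_V (a : Fin 2) : IsAffineOpen (V f a) :=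
  IsAffineHom.isAffine_preimage (f := f) (U k a)
    (ProjSpace.Basic.isAffineOpen_basicOpen_X (R := k) a)

theorem surjective_of_finrank (hrk : ∀ y, f.finrank y = 2) : Function.Surjective f := by
  have : Surjective f := (Scheme.Hom.one_le_finrank_iff_surjective f).1 fun y => by
    rw [hrk y]; exact one_le_two
  exact this.1

theorem zeroPoint_mem_U01 : ProjSpace.Basic.zeroPoint 1 k ∈ U01 k := by
  have h : ∀ i : Fin 2, ProjSpace.Basic.zeroPoint 1 k ∈ U k i := fun i hi =>
    MvPolynomial.X_ne_zero i (show (MvPolynomial.X i : MvPolynomial (Fin 2) k) = 0 from hi)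
  exact ⟨h 0, h 1⟩

theorem nonempty_V01 (hrk : ∀ y, f.finrank y = 2) : Nonempty (V01 f) := by
  obtain ⟨x, hx⟩ := surjective_of_finrank f hrk (ProjSpace.Basic.zeroPoint 1 k)
  exact ⟨⟨x, show f x ∈ U01 k by rw [hx]; exact zeroPoint_mem_U01⟩⟩

variable [IsIntegral C] (hrk : ∀ y, f.finrank y = 2)

include hrk in
theorem rHom_injective (a : Fin 2) : Function.Injective (rHom f a) :=
  have := nonempty_V01 f hrk
  SplitP1.Basis.rf_injective (f.preimage_mono (U01_le k a))

theorem rHom_surj (a : Fin 2) (b : Γ(C, V01 f)) :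
    ∃ (n : ℕ) (x : Γ(C, V f a)), b * rHom f a (chartHom f a Polynomial.X) ^ n = rHom f a x := by
  have key : ∀ (W : C.Opens) (hW : W ≤ V f a), W = C.basicOpen (chartHom f a Polynomial.X) →
      ∀ b : Γ(C, W), ∃ (n : ℕ) (x : Γ(C, V f a)),
        b * rf hW (chartHom f a Polynomial.X) ^ n = rf hW x := by
    rintro W hW rfl b
    have := (isAffineOpen_V f a).isLocalization_basicOpen (chartHom f a Polynomial.X)
    obtain ⟨⟨x, _, n, rfl⟩, hb⟩ :=
      IsLocalization.surj (Submonoid.powers (chartHom f a Polynomial.X)) b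
    exact ⟨n, x, by rw [← map_pow]; exact hb⟩
  exact key _ (f.preimage_mono (U01_le k a)) (V01_eq_basicOpen f a) b

include hrk in
/-- Each chart is free of rank two with a basis `1, y`. -/
theorem exists_y (a : Fin 2) : ∃ y : Γ(C, V f a), Function.Bijective fun p : Polynomial k × Polynomial k =>
    chartHom f a p.1 + chartHom f a p.2 * y := by
  have hU : IsAffineOpen (U k a) := ProjSpace.Basic.isAffineOpen_basicOpen_X (R := k) a
  have : Nonempty (U k a) := ⟨⟨_, U01_le k a (zeroPoint_mem_U01 (k := k))⟩⟩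
  have : IsPrincipalIdealRing Γ(P1 k, U k a) :=
    IsPrincipalIdealRing.of_surjective (φ k a) (φ_bijective k a).2
  letI : Algebra Γ(P1 k, U k a) Γ(C, V f a) := (f.app (U k a)).hom.toAlgebra
  have : Module.Finite Γ(P1 k, U k a) Γ(C, V f a) :=
    RingHom.finite_algebraMap.mp (f.finite_app _ hU)
  have : Module.Flat Γ(P1 k, U k a) Γ(C, V f a) :=
    RingHom.flat_algebraMap_iff.mp (by
      have := HasRingHomProperty.appLE @Flat f inferInstance ⟨U k a, hU⟩
        ⟨f ⁻¹ᵁ U k a, hU.preimage f⟩ le_rfl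
      rwa [← Scheme.Hom.app_eq_appLE] at this)
  have : Module.IsTorsionFree Γ(P1 k, U k a) Γ(C, V f a) :=
    Submodule.isTorsionFree_iff_torsion_eq_bot.2
      (Module.Flat.flat_iff_torsion_eq_bot_of_isBezout.1 inferInstance)
  have : Module.Free Γ(P1 k, U k a) Γ(C, V f a) := Module.free_of_finite_type_torsion_free'
  have hrank : Module.finrank Γ(P1 k, U k a) Γ(C, V f a) = 2 := by
    obtain ⟨⟨x, hx⟩⟩ := (inferInstance : Nonempty (U k a))
    have h1 := RelDiv.Rank.finrank_eq_rankAtStalk f hU x hx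
    rw [hrk x, Module.rankAtStalk_eq_finrank_of_free] at h1
    simpa using h1.symm
  have : Nontrivial Γ(C, V f a) := Module.nontrivial_of_finrank_pos
    (R := Γ(P1 k, U k a)) (by omega)
  have : FaithfulSMul Γ(P1 k, U k a) Γ(C, V f a) := by
    rw [faithfulSMul_iff_algebraMap_injective]
    exact FaithfulSMul.algebraMap_injective _ _
  obtain ⟨y, hy⟩ := exists_one_basis (Module.finBasisOfFinrankEq Γ(P1 k, U k a) Γ(C, V f a) hrank)
  exact ⟨y, hy.comp ((φ_bijective k a).prodMap (φ_bijective k a))⟩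

include hrk in
theorem ι_injective : Function.Injective (f.app (U01 k)).hom := by
  refine (injective_iff_map_eq_zero _).2 fun l hl => ?_
  obtain ⟨n, p, hp⟩ := (data k).surj l
  have h0 : rHom f 0 (chartHom f 0 p) = 0 := by
    rw [rHom_chartHom, show ψ k 0 p = l * ((data k).u : Γ(P1 k, U01 k)) ^ n from hp.symm, map_mul,
      hl, zero_mul]
  obtain ⟨y, hy⟩ := exists_y f hrk 0
  have hp0 : p = 0 := by
    have h1 : chartHom f 0 p = 0 := rHom_injective f hrk 0 (h0.trans (map_zero _).symm)
    exact (Prod.mk.inj (@hy.1 (p, 0) (0, 0) (by simp [h1]))).1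
  rw [hp0, map_zero] at hp
  exact ((data k).u.isUnit.pow n).mul_left_eq_zero.1 hp

include hrk in
/-- The two charts form a glueing datum. -/
theorem glue :
    letI := (chartHom f 0).toAlgebra
    letI := (chartHom f 1).toAlgebra
    Glue (data k) (f.app (U01 k)).hom (rHom f 0) (rHom f 1) := by
  letI := (chartHom f 0).toAlgebra
  letI := (chartHom f 1).toAlgebra
  refine ⟨rHom_chartHom f 0, rHom_chartHom f 1, rHom_injective f hrk 0, rHom_injective f hrk 1,
    fun b => ?_, fun b => ?_⟩
  · obtain ⟨n, x, h⟩ := rHom_surj f 0 b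
    exact ⟨n, x, by rw [rHom_chartHom] at h; exact h⟩
  · obtain ⟨n, x, h⟩ := rHom_surj f 1 b
    exact ⟨n, x, by rw [rHom_chartHom] at h; exact h⟩

end Groth.Agent.H34.HyperEll
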