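import Mathlib.Algebra.MvPolynomial.Equiv
import Mathlib.RingTheory.Polynomial.Basic
import Mathlib.RingTheory.Ideal.Quotient.Operations

/-!
An algebra that is free on `1, y` over `k[X]` is a plane curve algebra.
-/

universe u
set_option autoImplicit false

open Polynomial

namespace Groth.Agent.H34.HyperEll

variable {k : Type u} [Field k] {A : Type u} [CommRing A] (χ : k[X] →+* A)

/-- Shearing a basis `1, y`. -/
theorem bijective_shear {y : A} (hy : Function.Bijective fun p : k[X] × k[X] => χ p.1 + χ p.2 * y)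
    (a u : k[X]) (hu : IsUnit u) :
    Function.Bijective fun p : k[X] × k[X] => χ p.1 + χ p.2 * (χ a + χ u * y) := by
  obtain ⟨u, rfl⟩ := hu
  have hcomp : (fun p : k[X] × k[X] => χ p.1 + χ p.2 * (χ a + χ (u : k[X]) * y)) =
      (fun p : k[X] × k[X] => χ p.1 + χ p.2 * y) ∘ fun p => (p.1 + p.2 * a, p.2 * (u : k[X])) := by
    funext p
    simp only [Function.comp_apply, map_add, map_mul]
    ring
  rw [hcomp]
  refine hy.comp ⟨fun v w h => ?_, fun w => ⟨(w.1 - w.2 * (↑u⁻¹ : k[X]) * a, w.2 * (↑u⁻¹ : k[X])), ?_⟩⟩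
  · obtain ⟨h1, h2⟩ := Prod.mk.inj h
    have h2' : v.2 = w.2 := u.isUnit.mul_right_cancel h2
    refine Prod.ext ?_ h2'
    rw [h2'] at h1
    exact add_right_cancel h1
  · refine Prod.ext ?_ ?_
    · simp
    · simp [mul_assoc]

variable {y : A} (hy : Function.Bijective fun p : k[X] × k[X] => χ p.1 + χ p.2 * y) (p q : k[X])

open MvPolynomial in
/-- The equation of the curve. -/
noncomputable abbrev rel : MvPolynomial (Fin 2) k :=
  MvPolynomial.X 1 ^ 2 + Polynomial.aeval (MvPolynomial.X 0) q * MvPolynomial.X 1 -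
    Polynomial.aeval (MvPolynomial.X 0) p

include hy in
theorem exists_present (hrel : y ^ 2 + χ q * y - χ p = 0) :
    ∃ E : (MvPolynomial (Fin 2) k ⧸ Ideal.span {rel p q}) ≃+* A,
      ∀ c : k, E (Ideal.Quotient.mk _ (MvPolynomial.C c)) = χ (C c) := by
  let Φ : MvPolynomial (Fin 2) k →+* A := MvPolynomial.eval₂Hom (χ.comp C) ![χ X, y]
  let j : k[X] →+* MvPolynomial (Fin 2) k :=
    (Polynomial.aeval (R := k) (MvPolynomial.X 0 : MvPolynomial (Fin 2) k)).toRingHom
  have hj : ∀ r : k[X], Φ (j r) = χ r := fun r => by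
    have : Φ.comp j = χ := Polynomial.ringHom_ext (fun c => by simp [Φ, j]) (by simp [Φ, j])
    exact RingHom.congr_fun this r
  let I := Ideal.span {rel p q}
  have hI : ∀ x ∈ I, Φ x = 0 := by
    intro x hx
    obtain ⟨z, rfl⟩ := Ideal.mem_span_singleton.1 hx
    rw [map_mul]
    refine mul_eq_zero_of_left ?_ _
    change Φ (MvPolynomial.X 1 ^ 2 + j q * MvPolynomial.X 1 - j p) = 0
    rw [map_sub, map_add, map_pow, map_mul, hj, hj]
    simpa [Φ] using hrel
  have hnf : ∀ x : MvPolynomial (Fin 2) k, ∃ a b : k[X], x - (j a + j b * MvPolynomial.X 1) ∈ I := by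
    intro x
    induction x using MvPolynomial.induction_on with
    | C c => exact ⟨C c, 0, by simp [j]⟩
    | add u v hu hv =>
      obtain ⟨a, b, hu⟩ := hu
      obtain ⟨a', b', hv⟩ := hv
      exact ⟨a + a', b + b', by
        rw [map_add, map_add, show u + v - (j a + j a' + (j b + j b') * MvPolynomial.X 1) =
          (u - (j a + j b * MvPolynomial.X 1)) + (v - (j a' + j b' * MvPolynomial.X 1)) by ring]
        exact I.add_mem hu hv⟩
    | mul_X u i hu =>
      obtain ⟨a, b, hu⟩ := hu
      obtain rfl | rfl : i = 0 ∨ i = 1 := by omega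
      · refine ⟨a * X, b * X, ?_⟩
        have hX : j X = MvPolynomial.X 0 := by simp [j]
        rw [map_mul, map_mul, hX, show u * MvPolynomial.X 0 - (j a * MvPolynomial.X 0 +
            j b * MvPolynomial.X 0 * MvPolynomial.X 1) =
          MvPolynomial.X 0 * (u - (j a + j b * MvPolynomial.X 1)) by ring]
        exact I.mul_mem_left _ hu
      · refine ⟨b * p, a - b * q, ?_⟩
        rw [map_sub, map_mul, map_mul, show u * MvPolynomial.X 1 - (j b * j p +
            (j a - j b * j q) * MvPolynomial.X 1) =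
          MvPolynomial.X 1 * (u - (j a + j b * MvPolynomial.X 1)) +
            j b * (MvPolynomial.X 1 ^ 2 + j q * MvPolynomial.X 1 - j p) by ring]
        exact I.add_mem (I.mul_mem_left _ hu) (I.mul_mem_left _ (Ideal.subset_span rfl))
  have hbij : Function.Bijective (Ideal.Quotient.lift I Φ hI) := by
    constructor
    · rw [injective_iff_map_eq_zero]
      intro z hz
      obtain ⟨x, rfl⟩ := Ideal.Quotient.mk_surjective z
      rw [Ideal.Quotient.lift_mk] at hz
      obtain ⟨a, b, hab⟩ := hnf x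
      have h0 := hI _ hab
      rw [map_sub, hz, map_add, map_mul, hj, hj, zero_sub, neg_eq_zero,
        show Φ (MvPolynomial.X 1) = y by simp [Φ]] at h0
      obtain ⟨rfl, rfl⟩ := Prod.mk.inj (@hy.1 (a, b) (0, 0) (by simpa using h0))
      exact Ideal.Quotient.eq_zero_iff_mem.2 (by simpa using hab)
    · intro z
      obtain ⟨⟨a, b⟩, rfl⟩ := hy.2 z
      refine ⟨Ideal.Quotient.mk I (j a + j b * MvPolynomial.X 1), ?_⟩
      rw [Ideal.Quotient.lift_mk, map_add, map_mul, hj, hj]
      simp [Φ]
  refine ⟨RingEquiv.ofBijective _ hbij, fun c => ?_⟩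
  change Ideal.Quotient.lift I Φ hI (Ideal.Quotient.mk I (MvPolynomial.C c)) = _
  rw [Ideal.Quotient.lift_mk]
  simp [Φ]

end Groth.Agent.H34.HyperEll
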