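import Groth.Prelude.Def_CurvBase
import Groth.Prelude.Def_LefPen
import Groth.Agent.Lib.TensorMod.QCohInv
import Groth.Agent.H34.SplitP1.Bundle
import Groth.Agent.H34.HyperEll.Cover
import Groth.Agent.H34.HyperEll.Present

/-!
The affine equation of a hyperelliptic curve.
-/

noncomputable section
set_option autoImplicit false
universe u

open CategoryTheory CategoryTheory.Limits AlgebraicGeometry Opposite TopologicalSpace
open Groth.Agent.Lib Groth.Agent.Lib.TensorMod.Dual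

namespace Groth.Agent.H34.HyperEll

open Groth.Agent.H34.SplitP1 (P1 U U01 φ ψ data φ_bijective U01_le iSup_U)
open Groth.Agent.Lib.Curves.PolePoint (cst res_cst fromSpec_comp_over)
open Groth.Agent.Lib.Curves.MVModule (secModuleOn resₗ)

set_option maxHeartbeats 400000

variable {k : Type u} [Field k] {C : Scheme.{u}} [C.Over (Spec (CommRingCat.of k))] (f : C ⟶ P1 k)
  (hf : f ≫ CohB1.ProjSpace.toSpec 1 k = C ↘ Spec (CommRingCat.of k))

include hf in
theorem chartHom_C (a : Fin 2) (c : k) : chartHom f a (Polynomial.C c) = cst k (V f a) c := by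
  have h := congrArg (fun g => g ≫ f.app (U k a)) (constants_chart (k := k) a)
  simp only [Category.assoc] at h
  rw [Scheme.Hom.app_eq_appLE, Scheme.Hom.appLE_comp_appLE] at h
  have h' := ConcreteCategory.congr_hom h c
  rw [cst]
  simp only [← hf]
  simp only [CommRingCat.hom_comp, RingHom.comp_apply] at h' ⊢
  rw [chartHom, RingHom.comp_apply, Scheme.Hom.app_eq_appLE]
  exact h'

theorem sup_V : V f 0 ⊔ V f 1 = ⊤ := by
  refine top_le_iff.1 fun x _ => ?_
  obtain ⟨i, hi⟩ := Opens.mem_iSup.1 ((iSup_U (k := k)).ge (trivial : f x ∈ (⊤ : (P1 k).Opens)))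
  obtain rfl | rfl : i = 0 ∨ i = 1 := by omega
  · exact Or.inl hi
  · exact Or.inr hi

variable [IsFinite f] [Flat f] [IsIntegral C] (hrk : ∀ y, f.finrank y = 2)

include hf hrk in
/-- The genus of the double cover in terms of the transition. -/
theorem genus_eq {y0 : Γ(C, V f 0)} {y1 : Γ(C, V f 1)}
    (hy0 : Function.Bijective fun p : Polynomial k × Polynomial k =>
      chartHom f 0 p.1 + chartHom f 0 p.2 * y0)
    (hy1 : Function.Bijective fun p : Polynomial k × Polynomial k =>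
      chartHom f 1 p.1 + chartHom f 1 p.2 * y1)
    {e : ℤ} {l : Γ(P1 k, U01 k)}
    (hY : rHom f 1 y1 = (f.app (U01 k)).hom l + (f.app (U01 k)).hom ((data k).up (-e)) * rHom f 0 y0) :
    Curv2.genus k C = (e - 1).toNat := by
  let A0 := (chartHom f 0).toAlgebra
  let A1 := (chartHom f 1).toAlgebra
  let F := Coh.structureModule C
  have : F.IsQuasicoherent := TensorMod.QCohInv.isQCoh_structureModule C
  letI := secModuleOn k F (V f 0)
  letI := secModuleOn k F (V f 1)
  letI : Module k Γ(F, V f 0 ⊓ V f 1) := secModuleOn k F _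
  refine (finrank_H1 F (sup_V f) (isAffineOpen_V f 0) (isAffineOpen_V f 1)).trans ?_
  letI : Module k Γ(C, f ⁻¹ᵁ U01 k) :=
    Module.compHom (Γ(C, f ⁻¹ᵁ U01 k) : Type u) (cst k (f ⁻¹ᵁ U01 k))
  let eM : Γ(F, V f 0 ⊓ V f 1) ≃ₗ[k] Γ(C, f ⁻¹ᵁ U01 k) :=
    { toFun := fun x => x
      map_add' := fun _ _ => rfl
      map_smul' := fun _ _ => rfl
      invFun := fun x => x
      left_inv := fun _ => rfl
      right_inv := fun _ => rfl }
  refine (Submodule.Quotient.equiv _ _ eM rfl).finrank_eq.trans ?_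
  refine finrank_coker (B := (Γ(C, f ⁻¹ᵁ U01 k) : Type u)) (glue f hrk) hy0 hy1 hY (fun c b => ?_) _ fun b => ?_
  · change cst k (f ⁻¹ᵁ U01 k) c * b = _
    congr 1
    rw [show (data k).φ0 = ψ k 0 from rfl, ← rHom_chartHom, chartHom_C f hf 0]
    exact (RingHom.congr_fun (res_cst (k := k) (f.preimage_mono (U01_le k 0))) c).symm
  · rw [Submodule.map_sup, Submodule.mem_sup]
    constructor
    · rintro ⟨_, ⟨_, ⟨a0, rfl⟩, rfl⟩, _, ⟨_, ⟨a1, rfl⟩, rfl⟩, rfl⟩
      exact ⟨a0, a1, rfl⟩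
    · rintro ⟨a0, a1, rfl⟩
      exact ⟨_, ⟨_, ⟨a0, rfl⟩, rfl⟩, _, ⟨_, ⟨a1, rfl⟩, rfl⟩, rfl⟩

include hf hrk in
/-- The equation of the first chart. -/
theorem main (g : ℕ) (hg2 : 2 ≤ g) (hg : Curv2.genus k C = g)
    (hic : IsIntegrallyClosed Γ(C, V f 1)) :
    ∃ (p q : Polynomial k), 2 * g + 1 ≤ max p.natDegree (2 * q.natDegree) ∧
      max p.natDegree (2 * q.natDegree) ≤ 2 * g + 2 ∧
      ∃ E : (MvPolynomial (Fin 2) k ⧸ Ideal.span {rel p q}) ≃+* Γ(C, V f 0),
        ∀ c : k, E (Ideal.Quotient.mk _ (MvPolynomial.C c)) = cst k (V f 0) c := by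
  let A0 := (chartHom f 0).toAlgebra
  let A1 := (chartHom f 1).toAlgebra
  let ι := (f.app (U01 k)).hom
  have G := glue f hrk
  obtain ⟨y0, hy0⟩ := exists_y f hrk 0
  obtain ⟨y1, hy1⟩ := exists_y f hrk 1
  obtain ⟨c, e, l, hc, hY⟩ := exists_transition G hy0 hy1
  let z0 := chartHom f 0 0 + chartHom f 0 (Polynomial.C c) * y0
  have hz0 := bijective_shear (chartHom f 0) hy0 0 (Polynomial.C c)
    (Polynomial.isUnit_C.2 (isUnit_iff_ne_zero.2 hc))
  have hr0 : ∀ p, rHom f 0 (chartHom f 0 p) = ι ((data k).φ0 p) := rHom_chartHom f 0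
  have hr1 : ∀ p, rHom f 1 (chartHom f 1 p) = ι ((data k).φ1 p) := rHom_chartHom f 1
  have hYz : rHom f 1 y1 = ι l + ι ((data k).up (-e)) * rHom f 0 z0 := by
    simp only [z0, map_add, map_mul, map_zero, hr0] at hY ⊢
    rw [hY]; ring
  have hge := genus_eq f hf hrk hz0 hy1 hYz
  rw [hg] at hge
  obtain ⟨a, b, hab⟩ := exists_decomp (data k) (z := -e) (by omega) l
  have hw0 := bijective_shear (chartHom f 0) hz0 a 1 isUnit_one
  have hw1 := bijective_shear (chartHom f 1) hy1 (-b) 1 isUnit_one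
  let w0 := chartHom f 0 a + chartHom f 0 1 * z0
  let w1 := chartHom f 1 (-b) + chartHom f 1 1 * y1
  have hW : rHom f 1 w1 = ι ((data k).up (-e)) * rHom f 0 w0 := by
    simp only [w0, w1, map_add, map_mul, map_one, map_neg, hr0, hr1, hab] at hYz ⊢
    linear_combination hYz
  have : Nonempty (V f 1) := by
    obtain ⟨x, hx⟩ := nonempty_V01 f hrk
    exact ⟨⟨x, hx.2⟩⟩
  obtain ⟨p, q, hrel, hlo, hhi⟩ := exists_equation G hw0 hw1 hW (by omega)
  obtain ⟨E, hE⟩ := exists_present (chartHom f 0) hw0 p q hrel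
  refine ⟨p, q, by omega, by omega, E, fun c => ?_⟩
  rw [hE, chartHom_C f hf 0]

end Groth.Agent.H34.HyperEll
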